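import Groth.Agent.CohCmpLib.EulerFibre
import Groth.Agent.IntMultLib.Positive
import Groth.Agent.IntMultLib.Asymp
import Groth.Agent.RichLib.ModFlatLimit
import Groth.Agent.ConsLib.ModLoci
import Groth.Agent.HilbPolyLib.Basic
import Groth.Prelude.Def_Pic13

/-!
Twisting by a class algebraically or `τ`-equivalent to zero keeps Euler characteristics.
-/

set_option autoImplicit false
set_option maxHeartbeats 1000000
set_option backward.isDefEq.respectTransparency false
set_option linter.style.haveILetI false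

universe u

open CategoryTheory CategoryTheory.Limits AlgebraicGeometry TopologicalSpace
open HilbPolyLib

namespace AlgEquivLib

/-- Twisting by an invertible module keeps flatness. -/
theorem isFlatOver_tensor {P T : Scheme.{u}} (f : P ⟶ T) {A M : P.Modules} (hA : FlatMod.IsFlatOver f A)
    (hM : PicF.IsInvertible M) : FlatMod.IsFlatOver f (CohB1.tensorMod A M) := by
  intro x
  obtain ⟨U, hx, ⟨i⟩⟩ := hM x
  haveI := KFlatLib.isIso_pullθ U.ι A M
  let e : (Scheme.Modules.pullback U.ι).obj (CohB1.tensorMod A M) ≅ (Scheme.Modules.pullback U.ι).obj A :=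
    @asIso _ _ _ _ (KFlatLib.pullθ U.ι A M) this ≪≫
      congrRight _ (((Scheme.Modules.restrictFunctorIsoPullback U.ι).app M).symm ≪≫ i) ≪≫ swapIso _ _ ≪≫ unitLeft _
  have h := (RichLib.ModFlat.isFlatOverAt_comp_source U.ι f (CohB1.tensorMod A M) ⟨x, hx⟩)
  rw [RichLib.ModFlat.isFlatOverAt_iso _ e, RichLib.ModFlat.isFlatOverAt_comp_source U.ι f A ⟨x, hx⟩] at h
  exact h.1 (hA _)

variable (k : Type u) [Field k] (X : Scheme.{u}) [X.Over (Spec (CommRingCat.of k))]
  [IsProper (X ↘ Spec (CommRingCat.of k))]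

/-- A coherent module on a scheme over a field gives a flat family over every base. -/
theorem isFlatOver_const {T : Scheme.{u}} (q : T ⟶ Spec (CommRingCat.of k)) {G : X.Modules} (hG : Coh.IsCoh G) :
    FlatMod.IsFlatOver (pullback.snd (X ↘ Spec (CommRingCat.of k)) q)
      ((Scheme.Modules.pullback (pullback.fst (X ↘ Spec (CommRingCat.of k)) q)).obj G) := by
  intro x
  let a := X ↘ Spec (CommRingCat.of k)
  haveI : IsProper a := inferInstanceAs (IsProper (X ↘ Spec (CommRingCat.of k)))
  haveI : IsLocallyNoetherian X := LocallyOfFiniteType.isLocallyNoetherian a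
  haveI : LocallyOfFinitePresentation a := LocallyOfFinitePresentation.iff_locallyOfFiniteType.2 inferInstance
  haveI : Coh.IsQCoh G := hG.1
  have hfp : CohB1.IsFP G := QCohLib.isFP_of_isCoh G hG
  obtain ⟨U, hU, hxU, -⟩ := exists_isAffineOpen_mem_and_subset (x := (pullback.snd a q) x) (U := ⊤) (Set.mem_univ _)
  haveI : IsAffine (U : Scheme.{u}) := hU
  let t' : (U : Scheme.{u}) ⟶ Spec (CommRingCat.of k) := U.ι ≫ q
  let j : pullback a t' ⟶ pullback a q := pullback.map a t' a q (𝟙 _) U.ι (𝟙 _) (by simp) (by simp [t'])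
  have hfst : j ≫ pullback.fst a q = pullback.fst a t' := by simp [j]
  have hsnd : j ≫ pullback.snd a q = pullback.snd a t' ≫ U.ι := by simp [j]
  have hsq : IsPullback j (pullback.snd a t') (pullback.snd a q) U.ι := by
    refine IsPullback.of_right ?_ hsnd (IsPullback.of_hasPullback a q)
    rw [hfst]
    exact IsPullback.of_hasPullback a t'
  haveI : IsOpenImmersion j := MorphismProperty.of_isPullback hsq.flip inferInstance
  obtain ⟨y, hy⟩ : x ∈ Set.range j := by
    rw [← hsq.isoPullback_hom_fst, Scheme.Hom.comp_base, TopCat.coe_comp, Set.range_comp,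
      Set.range_eq_univ.2 hsq.isoPullback.hom.surjective, Set.image_univ, Scheme.Pullback.range_fst,
      Set.mem_preimage, U.range_ι]
    exact hxU
  rw [← hy]
  refine (RichLib.ModFlat.isFlatOverAt_congr j U.ι hsnd.symm
    ((Scheme.Modules.pullbackCongr hfst.symm).app G ≪≫ ((Scheme.Modules.pullbackComp j _).app G).symm) y).1 ?_
  let m : pullback a t' ⟶ pullback a (𝟙 (Spec (CommRingCat.of k))) :=
    pullback.map a t' a (𝟙 _) (𝟙 _) t' (𝟙 _) (by simp) (by simp)
  refine RichLib.ModFlat.isFlatOverAt_baseChange a G hfp (𝟙 _) t' t' (Category.comp_id _) m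
    (by simp [m]) (by simp [m]) y ?_
  let z := (pullback.snd a (𝟙 (Spec (CommRingCat.of k)))) (m y)
  letI := FlatMod.moduleStalkOver (pullback.snd a (𝟙 (Spec (CommRingCat.of k))))
    ((Scheme.Modules.pullback (pullback.fst a (𝟙 (Spec (CommRingCat.of k))))).obj G) (m y)
  have hfield : IsField ((Spec (CommRingCat.of k)).presheaf.stalk z) := by
    haveI : Subsingleton (Spec (CommRingCat.of k)) := inferInstanceAs (Subsingleton (PrimeSpectrum k))
    rw [Subsingleton.elim z (genericPoint (Spec (CommRingCat.of k)))]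
    exact Field.toIsField (Spec (CommRingCat.of k)).functionField
  letI := hfield.toField
  exact Module.Flat.of_free

/-- Twisting by a class algebraically equivalent to zero. -/
theorem euler_tensor_of_isAlgEquivZero {N G : X.Modules} (hN : Pic13.IsAlgEquivZero k X N) (hG : Coh.IsCoh G) :
    Curv2.euler k X (CohB1.tensorMod G N) = Curv2.euler k X G := by
  obtain ⟨T, q, hT, hq, hqc, M, hM, t, t₀, ht, ht₀, ⟨e⟩, ⟨e₀⟩⟩ := hN
  haveI := hq
  haveI := hT
  let a := X ↘ Spec (CommRingCat.of k)
  let f := pullback.snd a q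
  let p := pullback.fst a q
  haveI : LocallyOfFinitePresentation a := LocallyOfFinitePresentation.iff_locallyOfFiniteType.2 inferInstance
  haveI : LocallyOfFinitePresentation f := inferInstance
  haveI : IsLocallyNoetherian T := LocallyOfFiniteType.isLocallyNoetherian q
  haveI : IsLocallyNoetherian (pullback a q) := LocallyOfFiniteType.isLocallyNoetherian f
  let E := CohB1.tensorMod ((Scheme.Modules.pullback p).obj G) M
  have hfp : CohB1.IsFP E := QCohLib.isFP_of_isCoh E
    (SerreVanLib.isCoh_tensor (ConsLib.isCoh_pullback p hG) hM)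
  have hfl : FlatMod.IsFlatOver f E := isFlatOver_tensor f (isFlatOver_const k X q hG) hM
  have key : ∀ (s : Spec (CommRingCat.of k) ⟶ T) (hs : s ≫ q = 𝟙 _) (z : Spec (CommRingCat.of k)) {L : X.Modules}
      (_ : Pic13.fibreMod k X q s hs M ≅ L),
      Curv2.euler k X (CohB1.tensorMod G L) = PerfAux.eulerChar f E (s z) := by
    intro s hs z L eL
    have hslice : Pic13.sliceAt k X q s hs ≫ p = 𝟙 X := pullback.lift_fst _ _ _
    have H : IsPullback (Pic13.sliceAt k X q s hs) a f s := by
      refine IsPullback.of_right ?_ (pullback.lift_snd _ _ _) (IsPullback.of_hasPullback a q)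
      rw [hs, show Pic13.sliceAt k X q s hs ≫ pullback.fst a q = 𝟙 X from hslice]
      exact IsPullback.of_horiz_isIso ⟨by simp⟩
    rw [← CohCmpLib.euler_bc hfp hfl H z]
    haveI := KFlatLib.isIso_pullθ (Pic13.sliceAt k X q s hs) ((Scheme.Modules.pullback p).obj G) M
    exact (CurvLib.euler_congr (@asIso _ _ _ _ (KFlatLib.pullθ (Pic13.sliceAt k X q s hs) _ M) this ≪≫
      congrLeft ((Scheme.Modules.pullbackComp _ p).app G ≪≫ (Scheme.Modules.pullbackCongr hslice).app G ≪≫
        (Scheme.Modules.pullbackId X).app G) _ ≪≫ congrRight G eL)).symm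
  rw [key t ht (IsLocalRing.closedPoint k) e,
    ← CurvLib.euler_congr (swapIso G (Coh.structureModule X) ≪≫ unitLeft G),
    key t₀ ht₀ (IsLocalRing.closedPoint k) e₀]
  exact (CohCmpLib.isLocallyConstant_eulerChar hfp hfl).apply_eq_of_preconnectedSpace _ _

/-- Twisting by powers of a class `τ`-equivalent to zero. -/
theorem euler_tensor_pow_of_isTauEquivZero {L G : X.Modules} (hL : PicF.IsInvertible L)
    (hτ : Pic13.IsTauEquivZero k X L) (hG : Coh.IsCoh G) (m : ℕ) :
    Curv2.euler k X (CohB1.tensorMod G (CohB1.tensorPow L m)) = Curv2.euler k X G := by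
  obtain ⟨n, hn, hN⟩ := hτ
  obtain ⟨P, hP⟩ := exists_isHilbPoly' (k := k) hL hG
  have hstep : ∀ j : ℕ, Curv2.euler k X (CohB1.tensorMod G (CohB1.tensorPow L (n * j))) = Curv2.euler k X G := by
    intro j
    induction j with
    | zero => exact CurvLib.euler_congr (swapIso G _ ≪≫ unitLeft G)
    | succ j ih =>
      obtain ⟨e⟩ := IntMultLib.nonempty_tensorPow_add L (n * j) n
      rw [show n * (j + 1) = n * j + n by ring,
        CurvLib.euler_congr (congrRight G e ≪≫ (assocIso _ _ _).symm),
        euler_tensor_of_isAlgEquivZero k X hN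
          (SerreVanLib.isCoh_tensor hG (AmpleThLib.tensorPow_isInvertible hL _)), ih]
  have hPc : P = Polynomial.C (Curv2.euler k X G : ℚ) := by
    refine Polynomial.eq_of_infinite_eval_eq _ _ (Set.infinite_of_injective_forall_mem
      (f := fun j : ℕ => ((n * j : ℕ) : ℚ)) (fun i j h => Nat.eq_of_mul_eq_mul_left hn (Nat.cast_injective h))
      fun j => ?_)
    rw [Set.mem_setOf_eq, Polynomial.eval_C, ← hP, ShStab.twist, hstep]
  have := hP m
  rw [hPc, Polynomial.eval_C] at this
  exact_mod_cast this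

theorem euler_tensor_pow_inv_of_isTauEquivZero {L L' G : X.Modules} (hL : PicF.IsInvertible L)
    (hL' : PicF.IsInvertible L') (e : CohB1.tensorMod L L' ≅ Coh.structureModule X)
    (hτ : Pic13.IsTauEquivZero k X L) (hG : Coh.IsCoh G) (m : ℕ) :
    Curv2.euler k X (CohB1.tensorMod G (CohB1.tensorPow L' m)) = Curv2.euler k X G := by
  obtain ⟨e'⟩ := IntMultLib.nonempty_pow_inverse (swapIso L' L ≪≫ e) m
  rw [← euler_tensor_pow_of_isTauEquivZero k X hL hτ
    (SerreVanLib.isCoh_tensor hG (AmpleThLib.tensorPow_isInvertible hL' m)) m]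
  exact CurvLib.euler_congr (assocIso _ _ _ ≪≫ congrRight G e' ≪≫ swapIso G _ ≪≫ unitLeft G)

end AlgEquivLib
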