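import Groth.Agent.CohCmpLib.EulerFibre
import Groth.Agent.CubeConsLib.Transpose
import Groth.Agent.FibDimLib.FieldExt

/-!
A class which is geometrically algebraically equivalent to zero has the Euler characteristic of the
structure sheaf.
-/

set_option autoImplicit false
set_option maxHeartbeats 1000000
set_option backward.isDefEq.respectTransparency false
set_option linter.style.haveILetI false

universe u

open CategoryTheory CategoryTheory.Limits AlgebraicGeometry

namespace AlgEquivLib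

/-- The Euler characteristic of an invertible module is unchanged by a field extension. -/
theorem euler_field_ext {κ Ω : Type u} [Field κ] [Field Ω] {Z W : Scheme.{u}}
    (fZ : Z ⟶ Spec (CommRingCat.of κ)) [IsProper fZ] (g : W ⟶ Z) (fW : W ⟶ Spec (CommRingCat.of Ω))
    (ω : Spec (CommRingCat.of Ω) ⟶ Spec (CommRingCat.of κ)) (H : IsPullback g fW fZ ω) {M : Z.Modules}
    (hM : PicF.IsInvertible M) :
    @Curv2.euler Ω _ W ⟨fW⟩ ((Scheme.Modules.pullback g).obj M) = @Curv2.euler κ _ Z ⟨fZ⟩ M := by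
  letI : Z.Over (Spec (CommRingCat.of κ)) := ⟨fZ⟩
  haveI : LocallyOfFinitePresentation fZ := LocallyOfFinitePresentation.iff_locallyOfFiniteType.2 inferInstance
  haveI : Flat fZ := inferInstance
  obtain ⟨-, hfp, hfl⟩ := CohCmpLib.rank_one_hyps fZ ((CohCmpLib.invertible_iff_rank_one M).1 hM)
  have h2 := CohCmpLib.euler_bc hfp hfl (g' := 𝟙 Z) (f' := fZ) (v := 𝟙 _)
    (IsPullback.of_horiz_isIso ⟨by simp⟩) (IsLocalRing.closedPoint κ)
  rw [CohCmpLib.euler_bc hfp hfl H (IsLocalRing.closedPoint Ω)]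
  have h3 : Curv2.euler κ Z ((Scheme.Modules.pullback (𝟙 Z)).obj M) = Curv2.euler κ Z M :=
    CurvLib.euler_congr ((Scheme.Modules.pullbackId Z).app M)
  rw [← h3, h2]
  exact congrArg (PerfAux.eulerChar fZ M) (Subsingleton.elim (α := PrimeSpectrum κ) _ _)

/-- Algebraic triviality over a field extension gives the Euler characteristic of the structure sheaf. -/
theorem euler_eq_of_geom {κ Ω : Type u} [Field κ] [Field Ω] {Z W : Scheme.{u}}
    (fZ : Z ⟶ Spec (CommRingCat.of κ)) [IsProper fZ] (g : W ⟶ Z) (fW : W ⟶ Spec (CommRingCat.of Ω))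
    (ω : Spec (CommRingCat.of Ω) ⟶ Spec (CommRingCat.of κ)) (H : IsPullback g fW fZ ω) {M : Z.Modules}
    (hM : PicF.IsInvertible M)
    (h : @Pic13.IsAlgEquivZero Ω _ W ⟨fW⟩ ((Scheme.Modules.pullback g).obj M)) :
    @Curv2.euler κ _ Z ⟨fZ⟩ M = @Curv2.euler κ _ Z ⟨fZ⟩ (Coh.structureModule Z) := by
  letI : W.Over (Spec (CommRingCat.of Ω)) := ⟨fW⟩
  haveI : IsProper (W ↘ Spec (CommRingCat.of Ω)) := MorphismProperty.of_isPullback H ‹_›
  rw [← euler_field_ext fZ g fW ω H hM, ← euler_field_ext fZ g fW ω H (CubeConsLib.isInvertible_one Z),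
    CohCmpLib.euler_eq_of_isAlgEquivZero Ω W h]
  exact CurvLib.euler_congr (KFlatLib.pullUnitIso g).symm

theorem eulerCharLE_eq_of_isAlgTrivialAt_aux {Ω : Type u} [Field Ω] [IsAlgClosed Ω] {P T : Scheme.{u}} (p : P ⟶ T) [IsProper p] {L : P.Modules}
    (hL : PicF.IsInvertible L) (t : T) (h0 : AbDual.IsAlgTrivialAt p L t)
    (hd : topologicalKrullDim ↥(p.fiber t) ≤ ((1 : ℕ) : WithBot ℕ∞))
    (ω : Spec (CommRingCat.of Ω) ⟶ Spec (T.residueField t)) :
    @FGA.eulerCharLE (T.residueField t) _ (pullback p (T.fromSpecResidueField t))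
        ⟨pullback.snd p (T.fromSpecResidueField t)⟩
        ((Scheme.Modules.pullback (pullback.fst p (T.fromSpecResidueField t))).obj L) 1 =
      @FGA.eulerCharLE (T.residueField t) _ (pullback p (T.fromSpecResidueField t))
        ⟨pullback.snd p (T.fromSpecResidueField t)⟩ (Coh.structureModule _) 1 := by
  let κ := T.residueField t
  let σ₀ := T.fromSpecResidueField t
  letI : (pullback p σ₀).Over (Spec (CommRingCat.of κ)) := ⟨pullback.snd p σ₀⟩
  haveI : IsProper (pullback p σ₀ ↘ Spec (CommRingCat.of κ)) := inferInstanceAs (IsProper (pullback.snd p σ₀))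
  have hd' : topologicalKrullDim ↥(pullback p σ₀) ≤ ((1 : ℕ) : WithBot ℕ∞) := hd
  rw [HilbPolyLib.eulerCharLE_eq hd', HilbPolyLib.eulerCharLE_eq hd']
  let σ := ω ≫ σ₀
  have hσ : Set.range σ.base = {t} := by
    have hr := Scheme.range_fromSpecResidueField t
    refine Set.eq_singleton_iff_nonempty_unique_mem.2 ⟨Set.range_nonempty _, ?_⟩
    rintro _ ⟨z, rfl⟩
    have : σ₀ (ω z) ∈ Set.range σ₀.base := ⟨ω z, rfl⟩
    rw [hr] at this
    exact this
  let g : pullback p σ ⟶ pullback p σ₀ :=
    pullback.lift (pullback.fst p σ) (pullback.snd p σ ≫ ω) (by rw [Category.assoc]; exact pullback.condition)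
  have H : IsPullback g (pullback.snd p σ) (pullback.snd p σ₀) ω := by
    refine IsPullback.of_right ?_ (pullback.lift_snd _ _ _) (IsPullback.of_hasPullback p σ₀)
    rw [show g ≫ pullback.fst p σ₀ = pullback.fst p σ from pullback.lift_fst _ _ _]
    exact IsPullback.of_hasPullback p σ
  refine euler_eq_of_geom (pullback.snd p σ₀) g (pullback.snd p σ) ω H (AmpleDevLib.isInvertible_pb _ hL) ?_
  exact @CubeConsLib.isAlgEquivZero_iso Ω _ _ ⟨pullback.snd p σ⟩ _ _
    ((Scheme.Modules.pullbackCongr (pullback.lift_fst _ _ _).symm).app L ≪≫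
      ((Scheme.Modules.pullbackComp g _).app L).symm) (h0 Ω σ hσ)

/-- An algebraic closure of a field, as a scheme over its spectrum. -/
theorem exists_geom (T : Scheme.{u}) (t : T) :
    ∃ (Ω : Type u) (_ : Field Ω) (_ : IsAlgClosed Ω), Nonempty (Spec (CommRingCat.of Ω) ⟶ Spec (T.residueField t)) :=
  ⟨AlgebraicClosure (T.residueField t), inferInstance, inferInstance,
    ⟨Spec.map (CommRingCat.ofHom (algebraMap (T.residueField t) (AlgebraicClosure (T.residueField t))))⟩⟩

/-- Geometric algebraic triviality on a fibre of dimension at most one. -/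
theorem eulerCharLE_eq_of_isAlgTrivialAt {P T : Scheme.{u}} (p : P ⟶ T) [IsProper p] {L : P.Modules}
    (hL : PicF.IsInvertible L) (t : T) (h0 : AbDual.IsAlgTrivialAt p L t)
    (hd : topologicalKrullDim ↥(p.fiber t) ≤ ((1 : ℕ) : WithBot ℕ∞)) :
    @FGA.eulerCharLE (T.residueField t) _ (pullback p (T.fromSpecResidueField t))
        ⟨pullback.snd p (T.fromSpecResidueField t)⟩
        ((Scheme.Modules.pullback (pullback.fst p (T.fromSpecResidueField t))).obj L) 1 =
      @FGA.eulerCharLE (T.residueField t) _ (pullback p (T.fromSpecResidueField t))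
        ⟨pullback.snd p (T.fromSpecResidueField t)⟩ (Coh.structureModule _) 1 := by
  obtain ⟨Ω, _, _, ⟨ω⟩⟩ := exists_geom T t
  exact eulerCharLE_eq_of_isAlgTrivialAt_aux p hL t h0 hd ω

end AlgEquivLib
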